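import Cfsg.Agent.H802.TE.Defs

/-!
# S5261 (E1): an essential subgroup contained in `Q1` is `Q1` (helper869)

`iso_bound` : `|D|² ≤ |V|` for an isotropic subgroup of a nondegenerate alternating form with values in `ZMod p`.
-/

set_option autoImplicit false
set_option linter.unusedSectionVars false

namespace Cfsg.Agent.H869.TE

open Cfsg Cfsg.FusionSystem Cfsg.Agent.H756.PU Cfsg.Agent.H802.TE
open Cfsg.Agent.H765.D3 Cfsg.Agent.H765.D3.Sy
open Cfsg.Agent.Hex.Defs (sh cr nm tr)

universe u v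

section iso

/-- isotropic subgroups, nondegenerate form -/
theorem iso_bound {V : Type v} [AddCommGroup V] [Finite V] {p : ℕ} [Fact p.Prime] [Module (ZMod p) V]
    (f : V →+ V →+ ZMod p) (hf : ∀ v, (∀ w, f v w = 0) → v = 0) (D : AddSubgroup V)
    (hD : ∀ v ∈ D, ∀ w ∈ D, f v w = 0) : Nat.card D ^ 2 ≤ Nat.card V := by
  let B : V →ₗ[ZMod p] Module.Dual (ZMod p) V := AddMonoidHom.toZModLinearMap p
    { toFun := fun v => AddMonoidHom.toZModLinearMap p (f v)
      map_zero' := by ext w; simp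
      map_add' := fun v w => by ext x; simp }
  have hB : ∀ v w, B v w = f v w := fun v w => rfl
  let W : Submodule (ZMod p) V := AddSubgroup.toZModSubmodule p D
  have hW : ∀ v, v ∈ W ↔ v ∈ D := fun v => Iff.rfl
  have hinj : Function.Injective (B.domRestrict W) := by
    rw [← LinearMap.ker_eq_bot, LinearMap.ker_eq_bot']
    intro w hw
    apply Subtype.ext
    exact hf _ fun x => by
      rw [← hB]
      exact LinearMap.congr_fun hw x
  have hle : ∀ w, B.domRestrict W w ∈ W.dualAnnihilator := by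
    intro w
    rw [Submodule.mem_dualAnnihilator]
    intro x hx
    exact hD _ w.2 _ hx
  have h1 : Module.finrank (ZMod p) W ≤ Module.finrank (ZMod p) W.dualAnnihilator := by
    refine LinearMap.finrank_le_finrank_of_injective (f := (B.domRestrict W).codRestrict W.dualAnnihilator hle) ?_
    intro a b hab
    exact hinj (congrArg Subtype.val hab)
  have h2 := Subspace.finrank_add_finrank_dualAnnihilator_eq W
  have h3 : Nat.card D = p ^ Module.finrank (ZMod p) W := by
    have h4 : Nat.card D = Nat.card W := rfl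
    rw [h4, Module.natCard_eq_pow_finrank (K := ZMod p), Nat.card_zmod]
  have h5 : Nat.card V = p ^ Module.finrank (ZMod p) V := by
    rw [Module.natCard_eq_pow_finrank (K := ZMod p), Nat.card_zmod]
  rw [h3, h5, ← pow_mul]
  exact Nat.pow_le_pow_right (Fact.out (p := p.Prime)).pos (by omega)

/-- a nonzero functional vanishing on a proper subgroup -/
theorem exists_functional {V : Type v} [AddCommGroup V] {p : ℕ} [Fact p.Prime] [Module (ZMod p) V]
    (Y : AddSubgroup V) (hY : Y ≠ ⊤) : ∃ l : V →+ ZMod p, (∃ v, l v ≠ 0) ∧ ∀ y ∈ Y, l y = 0 := by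
  let W : Submodule (ZMod p) V := AddSubgroup.toZModSubmodule p Y
  have hW : W < ⊤ := by
    rw [lt_top_iff_ne_top]
    intro h
    apply hY
    rw [eq_top_iff]
    intro v _
    have : v ∈ W := by rw [h]; trivial
    exact this
  obtain ⟨f, hf0, hf⟩ := Submodule.exists_le_ker_of_lt_top W hW
  refine ⟨f.toAddMonoidHom, ?_, fun y hy => hf hy⟩
  by_contra hcon
  push Not at hcon
  exact hf0 (LinearMap.ext hcon)

end iso

section

variable {F K : Type u} [Field F] [Field K] [Algebra F K] (φ : K ≃ₐ[F] K) [Cub φ]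

theorem nd_F {A : Type*} [AddCommGroup A] {l : F →+ A} (hl : ∃ v, l v ≠ 0) {x : F} (h : ∀ y, l (x * y) = 0) : x = 0 := by
  by_contra hx
  obtain ⟨v, hv⟩ := hl
  apply hv
  have h1 := h (x⁻¹ * v)
  rwa [mul_inv_cancel_left₀ hx] at h1

include φ in
theorem nd_K {A : Type*} [AddCommGroup A] {l : F →+ A} (hl : ∃ v, l v ≠ 0) {x : K} (h : ∀ y : K, l (tr φ (x * y)) = 0) :
    x = 0 := by
  by_contra hx
  obtain ⟨v, hv⟩ := hl
  obtain ⟨s, hs⟩ := exists_tr_ne φ
  apply hv
  have h1 := h (x⁻¹ * ((v / tr φ s) • s))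
  rw [mul_inv_cancel_left₀ hx, tr_smul, div_mul_cancel₀ _ hs] at h1
  exact h1

/-- the form on the coordinate space `(x6, x5, x3, x2)` -/
noncomputable def fm {A : Type*} [AddCommGroup A] (l : F →+ A) : F × K × K × F →+ F × K × K × F →+ A where
  toFun v :=
    { toFun := fun w => l (v.1 * w.2.2.2 - v.2.2.2 * w.1 - tr φ (v.2.1 * w.2.2.1) + tr φ (v.2.2.1 * w.2.1))
      map_zero' := by simp [tr_zero]
      map_add' := fun w w' => by
        rw [← map_add]
        congr 1
        simp only [Prod.fst_add, Prod.snd_add, mul_add, tr_add]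
        ring }
  map_zero' := by
    apply AddMonoidHom.ext
    intro w
    show l _ = 0
    simp [tr_zero]
  map_add' v v' := by
    apply AddMonoidHom.ext
    intro w
    show l _ = l _ + l _
    rw [← map_add]
    congr 1
    simp only [Prod.fst_add, Prod.snd_add, add_mul, tr_add]
    ring

theorem fm_apply {A : Type*} [AddCommGroup A] (l : F →+ A) (v w : F × K × K × F) :
    fm φ l v w = l (v.1 * w.2.2.2 - v.2.2.2 * w.1 - tr φ (v.2.1 * w.2.2.1) + tr φ (v.2.2.1 * w.2.1)) := rfl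

theorem fm_nd {A : Type*} [AddCommGroup A] {l : F →+ A} (hl : ∃ v, l v ≠ 0) {v : F × K × K × F}
    (h : ∀ w, fm φ l v w = 0) : v = 0 := by
  have h1 : v.1 = 0 := nd_F hl fun y => by
    have := h (0, 0, 0, y)
    rw [fm_apply] at this
    simpa [tr_zero] using this
  have h2 : v.2.2.2 = 0 := nd_F hl fun y => by
    have := h (-y, 0, 0, 0)
    rw [fm_apply] at this
    simpa [tr_zero] using this
  have h3 : v.2.1 = 0 := nd_K φ hl fun y => by
    have := h (0, 0, -y, 0)
    rw [fm_apply] at this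
    simpa [tr_zero, tr_neg] using this
  have h4 : v.2.2.1 = 0 := nd_K φ hl fun y => by
    have := h (0, y, 0, 0)
    rw [fm_apply] at this
    simpa [tr_zero, tr_neg] using this
  exact Prod.ext h1 (Prod.ext h3 (Prod.ext h4 h2))

end

/-- **(E1)** -/
theorem stE1 (hp2 : StP2.{u}) (hphi : StPhi.{u}) : StE1.{u} := by
  intro F K _ _ _ _ _ φ _ p _ E Γ hE hle
  by_contra hne
  have hpF : Fact p.Prime := ⟨hE.pp⟩
  have hcF : CharP F p := (Algebra.charP_iff F K p).2 inferInstance
  let _ : Algebra (ZMod p) F := ZMod.algebra F p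
  let _ : Algebra (ZMod p) K := ZMod.algebra K p
  have hnot : ¬ Q1 φ ≤ E := fun h => hne (le_antisymm hle h)
  have hEfin : Finite E := inferInstance
  have hEp : IsPGroup p E := by
    have h1 := hE.pgr.to_le (le_top : E ≤ ⊤)
    exact h1
  obtain ⟨hPle, hPcom, -, -, -, -⟩ := hphi E p hE.pp hEfin hEp
  have hZE : Z1 φ ≤ E := fun x hx => hE.cent x trivial fun e _ => by
    rw [← center_eq] at hx
    exact (Subgroup.mem_center_iff.1 hx e).symm
  -- `[Q1, E] ≤ Z1`
  have hcom : Com (Q1 φ) E (Z1 φ) := fun a ha m hm => by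
    have h1 := comm_Q1 ha (hle hm)
    rw [commutatorElement_def] at h1
    rw [h1]
    exact u4_mem _
  have hN : Q1 φ ≤ normalizerIn ⊤ E := by
    refine le_inf le_top fun x hx => ?_
    have h1 : ∀ y ∈ Q1 φ, ∀ e ∈ E, y * e * y⁻¹ ∈ E := fun y hy e he => by
      have h2 := E.mul_mem (hZE (hcom y hy e he)) he
      rwa [inv_mul_cancel_right] at h2
    rw [Subgroup.mem_normalizer_iff]
    intro e
    refine ⟨h1 x hx e, fun h => ?_⟩
    have h2 := h1 x⁻¹ (inv_mem hx) _ h
    have h3 : x⁻¹ * (x * e * x⁻¹) * x⁻¹⁻¹ = e := by group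
    rwa [h3] at h2
  -- the inequality
  have hP := hp2 hE (Q1 φ) (Q1 φ) (Z1 φ) (Z1 φ) (Z1 φ ⊓ Phi E) (Z1 φ ⊓ Phi E) hN hN hnot hZE hZE hcom hcom
    inf_le_right inf_le_right
  rw [← pow_two] at hP
  have hi : E.relIndex (Q1 φ) ≤ (Z1 φ ⊓ Phi E).relIndex (Z1 φ) := (Nat.pow_le_pow_iff_left (by norm_num)).1 hP
  have hi1 : 1 < E.relIndex (Q1 φ) := by
    rcases Nat.lt_or_ge 1 (E.relIndex (Q1 φ)) with h | h
    · exact h
    · exfalso
      have h1 : E.relIndex (Q1 φ) ≠ 0 := (E.subgroupOf (Q1 φ)).index_ne_zero_of_finite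
      have h2 : E.relIndex (Q1 φ) = 1 := by omega
      exact hnot (Subgroup.relIndex_eq_one.1 h2)
  have hq : (Z1 φ ⊓ Phi E).relIndex (Z1 φ) ≤ Nat.card F := by
    rw [← card_Z1 (φ := φ)]
    exact Nat.le_of_dvd Nat.card_pos (Subgroup.index_dvd_card _)
  -- the functional
  let Y : AddSubgroup F :=
    { carrier := {w | u4 φ w ∈ Phi E}
      zero_mem' := (Phi E).one_mem
      add_mem' := fun {a b} ha hb => by
        show u4 φ (a + b) ∈ Phi E
        have h1 : u4 φ (a + b) = u4 φ a * u4 φ b := by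
          ext <;> simp [mul_def, u4, tr_zero, cr, sh, nm_zero]
        rw [h1]
        exact mul_mem ha hb
      neg_mem' := fun {a} ha => by
        show u4 φ (-a) ∈ Phi E
        have h1 : u4 φ (-a) = (u4 φ a)⁻¹ := by
          rw [eq_inv_iff_mul_eq_one]
          ext <;> simp [mul_def, u4, tr_zero, cr, sh, nm_zero]
        rw [h1]
        exact inv_mem ha }
  have hY : Y ≠ ⊤ := by
    intro h
    have h1 : (Z1 φ ⊓ Phi E).relIndex (Z1 φ) = 1 := by
      rw [Subgroup.relIndex_eq_one]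
      refine le_inf le_rfl fun x hx => ?_
      rw [eq_u4 hx]
      have : x.x4 ∈ Y := by rw [h]; trivial
      exact this
    omega
  obtain ⟨l, hl, hl0⟩ := exists_functional (p := p) Y hY
  -- the coordinates
  let D : AddSubgroup (F × K × K × F) :=
    { carrier := {v | ∃ x ∈ E, v = (x.x6, x.x5, x.x3, x.x2)}
      zero_mem' := ⟨1, one_mem _, rfl⟩
      add_mem' := by
        rintro _ _ ⟨x, hx, rfl⟩ ⟨y, hy, rfl⟩
        refine ⟨x * y, mul_mem hx hy, ?_⟩
        have hx1 : x.x1 = 0 := hle hx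
        simp [mul_def, hx1, cr, sh, tr_zero, nm_zero]
      neg_mem' := by
        rintro _ ⟨x, hx, rfl⟩
        refine ⟨x⁻¹, inv_mem hx, ?_⟩
        have hx1 : x.x1 = 0 := hle hx
        rw [inv_x6, inv_x5, inv_x3, inv_x2, hx1]
        simp [cr, sh, tr_zero, nm_zero] }
  have hDiso : ∀ v ∈ D, ∀ w ∈ D, fm φ l v w = 0 := by
    rintro _ ⟨x, hx, rfl⟩ _ ⟨y, hy, rfl⟩
    rw [fm_apply]
    apply hl0
    show u4 φ (form x y) ∈ Phi E
    rw [← comm_Q1 (hle hx) (hle hy), commutatorElement_def]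
    exact hPcom x hx y hy
  have hD := iso_bound (p := p) (fm φ l) (fun v hv => fm_nd φ hl hv) D hDiso
  -- orders
  have hEc : Nat.card E = Nat.card D * Nat.card F := by
    rw [← Nat.card_prod]
    refine Nat.card_congr ⟨fun x => (⟨((x : Sy φ).x6, (x : Sy φ).x5, (x : Sy φ).x3, (x : Sy φ).x2), x, x.2, rfl⟩,
      (x : Sy φ).x4), fun d => ⟨⟨0, d.1.1.1, d.1.1.2.1, d.1.1.2.2.1, d.1.1.2.2.2, d.2⟩, ?_⟩, fun x => ?_, fun d => rfl⟩
    · obtain ⟨⟨v, x, hx, rfl⟩, w⟩ := d
      have hx1 : x.x1 = 0 := hle hx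
      have h1 : (⟨0, x.x6, x.x5, x.x3, x.x2, w⟩ : Sy φ) = u4 φ (w - x.x4) * x := by
        ext <;> simp [mul_def, u4, hx1, cr, sh, tr_zero, nm_zero]
      show (⟨0, x.x6, x.x5, x.x3, x.x2, w⟩ : Sy φ) ∈ E
      rw [h1]
      exact mul_mem (hZE (u4_mem _)) hx
    · apply Subtype.ext
      have hx1 : (x : Sy φ).x1 = 0 := hle x.2
      ext
      exacts [hx1.symm, rfl, rfl, rfl, rfl, rfl]
  have hV : Nat.card (F × K × K × F) = (Nat.card F * Nat.card K) ^ 2 := by
    rw [Nat.card_prod, Nat.card_prod, Nat.card_prod]; ring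
  have hDle : Nat.card D ≤ Nat.card F * Nat.card K := by
    rw [hV] at hD
    exact (Nat.pow_le_pow_iff_left (by norm_num)).1 hD
  have hQ : Nat.card (Q1 φ) = Nat.card E * E.relIndex (Q1 φ) := (Subgroup.card_mul_index (E.subgroupOf (Q1 φ))).symm.trans (by
    rw [Nat.card_congr (Subgroup.subgroupOfEquivOfLe hle).toEquiv]; rfl)
  rw [card_Q1, hEc] at hQ
  have hF : 0 < Nat.card F := Nat.card_pos
  have hK : 1 < Nat.card K := Finite.one_lt_card
  have h1 : Nat.card K ^ 2 * Nat.card F ^ 3 ≤ Nat.card K * Nat.card F ^ 3 := by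
    calc Nat.card K ^ 2 * Nat.card F ^ 3 = Nat.card D * Nat.card F * E.relIndex (Q1 φ) := hQ
      _ ≤ (Nat.card F * Nat.card K) * Nat.card F * Nat.card F :=
        Nat.mul_le_mul (Nat.mul_le_mul_right _ hDle) (hi.trans hq)
      _ = Nat.card K * Nat.card F ^ 3 := by ring
  have h2 : Nat.card K ^ 2 ≤ Nat.card K := Nat.le_of_mul_le_mul_right h1 (by positivity)
  nlinarith

end Cfsg.Agent.H869.TE
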